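import Mathlib
import Groth.Prelude.Def_SpSeq

/-! Elementary facts on pages of spectral sequences. -/

universe v u

open CategoryTheory CategoryTheory.Limits

noncomputable section

namespace Groth.Agent.SpPageLib

variable {C : Type u} [Category.{v} C] [Abelian C] {r₀ : ℤ}

theorem prev_eq (E : CohomologicalSpectralSequence C r₀) (r : ℤ) (pq : ℤ × ℤ) :
    (ComplexShape.up' (⟨r, 1 - r⟩ : ℤ × ℤ)).prev pq = pq - (r, 1 - r) :=
  ComplexShape.prev_eq' _ (show pq - (r, 1 - r) + _ = pq from sub_add_cancel _ _)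

theorem next_eq (E : CohomologicalSpectralSequence C r₀) (r : ℤ) (pq : ℤ × ℤ) :
    (ComplexShape.up' (⟨r, 1 - r⟩ : ℤ × ℤ)).next pq = pq + (r, 1 - r) :=
  ComplexShape.next_eq' _ rfl

/-- the next page when both differentials vanish -/
def succIso (E : CohomologicalSpectralSequence C r₀) (r : ℤ) (hr : r₀ ≤ r) (pq : ℤ × ℤ)
    (h₁ : (E.page r hr).d (pq - (r, 1 - r)) pq = 0) (h₂ : (E.page r hr).d pq (pq + (r, 1 - r)) = 0) :
    (E.page (r + 1) (Int.le_add_one hr)).X pq ≅ (E.page r hr).X pq :=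
  (E.iso r (r + 1) pq rfl hr).symm ≪≫ ((E.page r hr).isoHomologyπ _ pq (prev_eq E r pq) h₁).symm ≪≫
    (E.page r hr).iCyclesIso pq _ (next_eq E r pq) h₂

theorem stationary_iso (E : CohomologicalSpectralSequence C r₀) {pq : ℤ × ℤ} {r : ℤ}
    (h : SpSeq.StationaryAt E pq r) : ∀ k : ℕ,
    Nonempty ((E.page (r + k) (le_trans h.1 (by omega))).X pq ≅ (E.page r h.1).X pq) := by
  intro k
  induction k with
  | zero => exact ⟨E.pageXIsoOfEq pq _ _ (by simp) (le_trans h.1 (by omega))⟩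
  | succ k ih =>
    obtain ⟨e⟩ := ih
    have hk := h.2 (r + k) (le_trans h.1 (by omega)) (by omega)
    exact ⟨E.pageXIsoOfEq pq _ _ (by push_cast; ring) (le_trans h.1 (by omega)) ≪≫ succIso E _ _ pq hk.1 hk.2 ≪≫ e⟩

theorem stationary_iso' (E : CohomologicalSpectralSequence C r₀) {pq : ℤ × ℤ} {r r' : ℤ}
    (h : SpSeq.StationaryAt E pq r) (h' : r ≤ r') :
    Nonempty ((E.page r' (h.1.trans h')).X pq ≅ (E.page r h.1).X pq) := by
  obtain ⟨k, rfl⟩ : ∃ k : ℕ, r' = r + k := ⟨(r' - r).toNat, by omega⟩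
  exact stationary_iso E h k

theorem isZero_succ (E : CohomologicalSpectralSequence C r₀) (r : ℤ) (hr : r₀ ≤ r) (pq : ℤ × ℤ)
    (h : IsZero ((E.page r hr).X pq)) : IsZero ((E.page (r + 1) (Int.le_add_one hr)).X pq) :=
  ((HomologicalComplex.ExactAt.of_isZero h).isZero_homology).of_iso (E.iso r (r + 1) pq rfl hr).symm

theorem isZero_later (E : CohomologicalSpectralSequence C r₀) (r : ℤ) (hr : r₀ ≤ r) (pq : ℤ × ℤ)
    (h : IsZero ((E.page r hr).X pq)) (k : ℤ) (hk : r ≤ k) :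
    IsZero ((E.page k (hr.trans hk)).X pq) := by
  obtain ⟨j, rfl⟩ : ∃ j : ℕ, k = r + j := ⟨(k - r).toNat, by omega⟩
  induction j with
  | zero => exact h.of_iso (E.pageXIsoOfEq pq _ _ (by simp) (hr.trans hk))
  | succ j ih =>
    exact (isZero_succ E _ (hr.trans (by omega)) pq (ih (by omega))).of_iso
      (E.pageXIsoOfEq pq _ _ (by push_cast; ring) (hr.trans hk))

theorem grPiece_isZero_of_isZero (E : CohomologicalSpectralSequence C r₀) {H : ℤ → C} (a : SpSeq.Abutment E H)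
    (r : ℤ) (hr : r₀ ≤ r) (pq : ℤ × ℤ) (h : IsZero ((E.page r hr).X pq)) :
    IsZero (SpSeq.grPiece (a.fil (pq.1 + pq.2)) (a.anti (pq.1 + pq.2)) pq.1) := by
  obtain ⟨e⟩ := stationary_iso' E (a.stat pq) (le_max_right r (a.rk pq))
  exact ((isZero_later E r hr pq h _ (le_max_left r (a.rk pq))).of_iso e.symm).of_iso (a.β pq).symm

theorem fil_eq_succ {X : C} (F : ℤ → Subobject X) (hF : Antitone F) (p : ℤ)
    (h : IsZero (SpSeq.grPiece F hF p)) : F p = F (p + 1) := by
  have hle : F (p + 1) ≤ F p := hF (by omega)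
  haveI : Epi (Subobject.ofLE _ _ hle) :=
    Preadditive.epi_of_isZero_cokernel _ h
  haveI := isIso_of_mono_of_epi (Subobject.ofLE _ _ hle)
  exact le_antisymm (Subobject.le_of_comm (inv (Subobject.ofLE _ _ hle)) (by simp)) hle

theorem fil_jump {X : C} (F : ℤ → Subobject X) (hF : Antitone F) (p₀ : ℤ)
    (hz : ∀ p, p ≠ p₀ → IsZero (SpSeq.grPiece F hF p)) (hdisc : ∃ b, F b = ⊥)
    (hexh : IsLUB (Set.range F) ⊤) : Nonempty (X ≅ SpSeq.grPiece F hF p₀) := by
  have hlow : ∀ k : ℕ, F (p₀ - k) = F p₀ := by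
    intro k
    induction k with
    | zero => simp
    | succ k ih =>
      rw [fil_eq_succ F hF _ (hz (p₀ - (k + 1 : ℕ)) (by omega)), ← ih]
      congr 1; push_cast; ring
  have hhigh : ∀ k : ℕ, F (p₀ + 1 + k) = F (p₀ + 1) := by
    intro k
    induction k with
    | zero => simp
    | succ k ih =>
      rw [← ih, fil_eq_succ F hF _ (hz (p₀ + 1 + k) (by omega))]
      congr 1; push_cast; ring
  have hbot : F (p₀ + 1) = ⊥ := by
    obtain ⟨b, hb⟩ := hdisc
    have := hhigh (b - (p₀ + 1)).toNat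
    rw [← this, eq_bot_iff, ← hb]
    exact hF (by omega)
  have htop : F p₀ = ⊤ := by
    refine le_antisymm le_top (hexh.2 ?_)
    rintro _ ⟨p, rfl⟩
    rcases le_or_gt p p₀ with hp | hp
    · rw [← hlow (p₀ - p).toNat]
      exact hF (by omega)
    · exact hF hp.le
  have h0 : Subobject.ofLE (F (p₀ + 1)) (F p₀) (hF (by omega)) = 0 := by
    rw [← cancel_mono (F p₀).arrow, Subobject.ofLE_arrow, zero_comp]
    have : IsZero ((F (p₀ + 1) : C)) := (isZero_zero C).of_iso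
      (Subobject.isoOfEq _ _ hbot ≪≫ Subobject.botCoeIsoZero)
    exact this.eq_of_src _ _
  exact ⟨(Subobject.isoOfEq _ _ htop ≪≫ asIso (⊤ : Subobject X).arrow).symm ≪≫
    (cokernelIsoOfEq h0 ≪≫ cokernelZeroIsoTarget).symm⟩

end Groth.Agent.SpPageLib
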